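import Mathlib

/-!
# Birationality from an isomorphism at the generic points
-/

set_option autoImplicit false
set_option linter.style.haveILetI false

universe u

open CategoryTheory AlgebraicGeometry

namespace Groth.Agent.BiratSpreadLib

variable {S X Y : Scheme.{u}}

/-- Two maps defined on opens, inverse to each other on their overlaps, give an isomorphism. -/
noncomputable def overlapIso {W : X.Opens} {W' : Y.Opens} (a : W.toScheme ⟶ Y) (b : W'.toScheme ⟶ X)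
    (ha : (a ∣_ W') ≫ b = (a ⁻¹ᵁ W').ι ≫ W.ι) (hb : (b ∣_ W) ≫ a = (b ⁻¹ᵁ W).ι ≫ W'.ι) :
    (a ⁻¹ᵁ W').toScheme ≅ (b ⁻¹ᵁ W).toScheme := by
  have hr : Set.range (a ∣_ W') ⊆ Set.range (b ⁻¹ᵁ W).ι := by
    rintro _ ⟨z, rfl⟩
    rw [Scheme.Opens.range_ι]
    show ((a ∣_ W') ≫ b) z ∈ W
    rw [ha]
    exact z.1.2
  have hr' : Set.range (b ∣_ W) ⊆ Set.range (a ⁻¹ᵁ W').ι := by
    rintro _ ⟨z, rfl⟩
    rw [Scheme.Opens.range_ι]
    show ((b ∣_ W) ≫ a) z ∈ W'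
    rw [hb]
    exact z.1.2
  refine ⟨IsOpenImmersion.lift (b ⁻¹ᵁ W).ι (a ∣_ W') hr, IsOpenImmersion.lift (a ⁻¹ᵁ W').ι (b ∣_ W) hr', ?_, ?_⟩
  · rw [← cancel_mono (a ⁻¹ᵁ W').ι, ← cancel_mono W.ι, Category.assoc, Category.assoc,
      IsOpenImmersion.lift_fac_assoc, morphismRestrict_ι, IsOpenImmersion.lift_fac_assoc,
      Category.id_comp]
    exact ha
  · rw [← cancel_mono (b ⁻¹ᵁ W).ι, ← cancel_mono W'.ι, Category.assoc, Category.assoc,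
      IsOpenImmersion.lift_fac_assoc, morphismRestrict_ι, IsOpenImmersion.lift_fac_assoc,
      Category.id_comp]
    exact hb

theorem fromSpecStalkOfMem_homOfLE {U V : X.Opens} (h : U ≤ V) (x : X) (hx : x ∈ U) :
    U.fromSpecStalkOfMem x hx ≫ X.homOfLE h = V.fromSpecStalkOfMem x (h hx) := by
  rw [← cancel_mono V.ι, Category.assoc, Scheme.homOfLE_ι, Scheme.Opens.fromSpecStalkOfMem_ι,
    Scheme.Opens.fromSpecStalkOfMem_ι]

variable [IrreducibleSpace ↥X] [IrreducibleSpace ↥Y] {x : X} {y : Y}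

/-- `f ≫ g` is the identity near `x`. -/
theorem exists_open_comp_eq [X.IsGermInjectiveAt x] (f : X.PartialMap Y) (g : Y.PartialMap X)
    (hx : x ∈ f.domain) (hy : y ∈ g.domain) (hfy : f.hom ⟨x, hx⟩ = y)
    (α : Spec (X.presheaf.stalk x) ⟶ Spec (Y.presheaf.stalk y))
    (β : Spec (Y.presheaf.stalk y) ⟶ Spec (X.presheaf.stalk x))
    (hf : f.fromSpecStalkOfMem hx = α ≫ Y.fromSpecStalk y)
    (hg : g.fromSpecStalkOfMem hy = β ≫ X.fromSpecStalk x) (hαβ : α ≫ β = 𝟙 _) :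
    ∃ (W : X.Opens) (hW : W ≤ f.domain) (k : W.toScheme ⟶ g.domain.toScheme), Dense (W : Set X) ∧
      k ≫ g.domain.ι = X.homOfLE hW ≫ f.hom ∧ k ≫ g.hom = W.ι := by
  let U₀ := f.domain.ι ''ᵁ f.hom ⁻¹ᵁ g.domain
  have hU₀ : U₀ ≤ f.domain := f.domain.ι_image_le _
  have hxU₀ : x ∈ U₀ := ⟨⟨x, hx⟩, show f.hom ⟨x, hx⟩ ∈ g.domain from hfy ▸ hy, rfl⟩
  let k₀ : U₀.toScheme ⟶ g.domain.toScheme :=
    (f.domain.ι.isoImage (f.hom ⁻¹ᵁ g.domain)).inv ≫ f.hom ∣_ g.domain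
  have hk₀ : k₀ ≫ g.domain.ι = X.homOfLE hU₀ ≫ f.hom := by
    simp only [k₀, Category.assoc, morphismRestrict_ι]
    rw [← Category.assoc]
    congr 1
    rw [← cancel_mono f.domain.ι, Category.assoc, Scheme.homOfLE_ι]
    exact f.domain.ι.isoImage_inv_ι _
  have hst : U₀.fromSpecStalkOfMem x hxU₀ ≫ k₀ = α ≫ g.domain.fromSpecStalkOfMem y hy := by
    rw [← cancel_mono g.domain.ι, Category.assoc, hk₀, Category.assoc,
      Scheme.Opens.fromSpecStalkOfMem_ι, ← Category.assoc, fromSpecStalkOfMem_homOfLE]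
    exact hf
  let P : X.PartialMap X := ⟨U₀, U₀.2.dense ⟨x, hxU₀⟩, k₀ ≫ g.hom⟩
  let Q : X.PartialMap X := ⟨U₀, U₀.2.dense ⟨x, hxU₀⟩, U₀.ι⟩
  have h : P.fromSpecStalkOfMem (x := x) hxU₀ = Q.fromSpecStalkOfMem (x := x) hxU₀ := by
    show U₀.fromSpecStalkOfMem x hxU₀ ≫ k₀ ≫ g.hom = U₀.fromSpecStalkOfMem x hxU₀ ≫ U₀.ι
    rw [← Category.assoc, hst, Category.assoc, Scheme.Opens.fromSpecStalkOfMem_ι,
      show g.domain.fromSpecStalkOfMem y hy ≫ g.hom = β ≫ X.fromSpecStalk x from hg,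
      ← Category.assoc, hαβ, Category.id_comp]
  obtain ⟨W, hW, hW₁, hW₂, e⟩ := Scheme.PartialMap.equiv_of_fromSpecStalkOfMem_eq P Q hxU₀ hxU₀ h
  refine ⟨W, hW₁.trans hU₀, X.homOfLE hW₁ ≫ k₀, hW, ?_, ?_⟩
  · rw [Category.assoc, hk₀, ← Category.assoc, Scheme.homOfLE_homOfLE]
  · rw [Category.assoc]
    exact e.trans (Scheme.homOfLE_ι _ _)

/-- Mutually inverse maps at the generic stalks give birationality. -/
theorem birationalOver_of_stalks [X.IsGermInjectiveAt (genericPoint X)]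
    [Y.IsGermInjectiveAt (genericPoint Y)] (sX : X ⟶ S) (sY : Y ⟶ S)
    [LocallyOfFiniteType sX] [LocallyOfFiniteType sY]
    (α : Spec (X.presheaf.stalk (genericPoint X)) ⟶ Spec (Y.presheaf.stalk (genericPoint Y)))
    (β : Spec (Y.presheaf.stalk (genericPoint Y)) ⟶ Spec (X.presheaf.stalk (genericPoint X)))
    (hαβ : α ≫ β = 𝟙 _) (hβα : β ≫ α = 𝟙 _)
    (hα : (α ≫ Y.fromSpecStalk _) ≫ sY = X.fromSpecStalk _ ≫ sX)
    (hβ : (β ≫ X.fromSpecStalk _) ≫ sX = Y.fromSpecStalk _ ≫ sY)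
    (hαy : (α ≫ Y.fromSpecStalk _) (IsLocalRing.closedPoint _) = genericPoint Y)
    (hβx : (β ≫ X.fromSpecStalk _) (IsLocalRing.closedPoint _) = genericPoint X) :
    Scheme.BirationalOver sX sY := by
  let f := Scheme.PartialMap.ofFromSpecStalk sX sY _ hα
  let g := Scheme.PartialMap.ofFromSpecStalk sY sX _ hβ
  have hxf := Scheme.PartialMap.mem_domain_ofFromSpecStalk sX sY _ hα
  have hyg := Scheme.PartialMap.mem_domain_ofFromSpecStalk sY sX _ hβ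
  have hf : f.fromSpecStalkOfMem hxf = α ≫ Y.fromSpecStalk _ :=
    Scheme.PartialMap.fromSpecStalkOfMem_ofFromSpecStalk sX sY _ hα
  have hg : g.fromSpecStalkOfMem hyg = β ≫ X.fromSpecStalk _ :=
    Scheme.PartialMap.fromSpecStalkOfMem_ofFromSpecStalk sY sX _ hβ
  have pt : ∀ {Z T : Scheme.{u}} (D : Z.Opens) (z : Z) (hz : z ∈ D) (h : D.toScheme ⟶ T),
      h ⟨z, hz⟩ = (D.fromSpecStalkOfMem z hz ≫ h) (IsLocalRing.closedPoint _) := by
    intro Z T D z hz h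
    rw [Scheme.Hom.comp_apply]
    congr 1
    refine Subtype.ext ?_
    show z = (D.fromSpecStalkOfMem z hz ≫ D.ι) (IsLocalRing.closedPoint _)
    rw [Scheme.Opens.fromSpecStalkOfMem_ι, Scheme.fromSpecStalk_closedPoint]
  have hfy : f.hom ⟨_, hxf⟩ = genericPoint Y := (pt _ _ hxf f.hom).trans (by
    rw [show f.domain.fromSpecStalkOfMem _ hxf ≫ f.hom = _ from hf]; exact hαy)
  have hgx : g.hom ⟨_, hyg⟩ = genericPoint X := (pt _ _ hyg g.hom).trans (by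
    rw [show g.domain.fromSpecStalkOfMem _ hyg ≫ g.hom = _ from hg]; exact hβx)
  obtain ⟨W, hW, k, hWd, hk, hkg⟩ := exists_open_comp_eq f g hxf hyg hfy α β hf hg hαβ
  obtain ⟨W', hW', k', hW'd, hk', hk'f⟩ := exists_open_comp_eq g f hyg hxf hgx β α hg hf hβα
  let a : W.toScheme ⟶ Y := X.homOfLE hW ≫ f.hom
  let b : W'.toScheme ⟶ X := Y.homOfLE hW' ≫ g.hom
  have hxW : genericPoint X ∈ W :=
    (genericPoint_specializes _).mem_open W.2 hWd.nonempty.choose_spec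
  have hyW' : genericPoint Y ∈ W' :=
    (genericPoint_specializes _).mem_open W'.2 hW'd.nonempty.choose_spec
  have hax : a ⟨_, hxW⟩ = genericPoint Y := by
    rw [Scheme.Hom.comp_apply]
    exact (congrArg f.hom (Subtype.ext (by rw [Scheme.homOfLE_base]; rfl))).trans hfy
  have hby : b ⟨_, hyW'⟩ = genericPoint X := by
    rw [Scheme.Hom.comp_apply]
    exact (congrArg g.hom (Subtype.ext (by rw [Scheme.homOfLE_base]; rfl))).trans hgx
  have ha : (a ∣_ W') ≫ b = (a ⁻¹ᵁ W').ι ≫ W.ι := by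
    have h1 : (a ∣_ W') ≫ Y.homOfLE hW' = (a ⁻¹ᵁ W').ι ≫ k := by
      rw [← cancel_mono g.domain.ι, Category.assoc, Scheme.homOfLE_ι, morphismRestrict_ι,
        Category.assoc, hk]
    rw [← Category.assoc, h1, Category.assoc, hkg]
  have hb : (b ∣_ W) ≫ a = (b ⁻¹ᵁ W).ι ≫ W'.ι := by
    have h1 : (b ∣_ W) ≫ X.homOfLE hW = (b ⁻¹ᵁ W).ι ≫ k' := by
      rw [← cancel_mono f.domain.ι, Category.assoc, Scheme.homOfLE_ι, morphismRestrict_ι,
        Category.assoc, hk']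
    rw [← Category.assoc, h1, Category.assoc, hk'f]
  let θ := (W.ι.isoImage (a ⁻¹ᵁ W')).symm ≪≫ overlapIso a b ha hb ≪≫ W'.ι.isoImage (b ⁻¹ᵁ W)
  refine ⟨⟨W.ι ''ᵁ a ⁻¹ᵁ W', (W.ι ''ᵁ a ⁻¹ᵁ W').2.dense ⟨_, ⟨⟨_, hxW⟩, ?_, rfl⟩⟩,
    W'.ι ''ᵁ b ⁻¹ᵁ W, (W'.ι ''ᵁ b ⁻¹ᵁ W).2.dense ⟨_, ⟨⟨_, hyW'⟩, ?_, rfl⟩⟩, θ⟩, ?_⟩
  · show a ⟨_, hxW⟩ ∈ W'
    rw [hax]; exact hyW'
  · show b ⟨_, hyW'⟩ ∈ W
    rw [hby]; exact hxW
  · have hι : (overlapIso a b ha hb).hom ≫ (b ⁻¹ᵁ W).ι = a ∣_ W' := IsOpenImmersion.lift_fac _ _ _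
    show ((W.ι.isoImage (a ⁻¹ᵁ W')).inv ≫ (overlapIso a b ha hb).hom ≫
      (W'.ι.isoImage (b ⁻¹ᵁ W)).hom) ≫ (W'.ι ''ᵁ b ⁻¹ᵁ W).ι ≫ sY = _
    simp only [Category.assoc, Scheme.Hom.isoImage_hom_ι_assoc]
    rw [reassoc_of% hι, ← Category.assoc (a ∣_ W'), morphismRestrict_ι, Category.assoc,
      show a ≫ sY = W.ι ≫ sX by
        simp only [a, Category.assoc]
        rw [show f.hom ≫ sY = f.domain.ι ≫ sX from
          Scheme.PartialMap.ofFromSpecStalk_comp sX sY _ hα, ← Category.assoc, Scheme.homOfLE_ι],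
      Scheme.Hom.isoImage_inv_ι_assoc]

end Groth.Agent.BiratSpreadLib
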